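import Cfsg.Agent.H655.RIM.U62Three
import Cfsg.Agent.H325.RIM.Surv

/-!
# S4816: the field `u62` of `RowsNB` (helper655)
-/

set_option autoImplicit false

namespace Cfsg.Agent.H655.RIM

open Cfsg Cfsg.Agent.H665.RIM Cfsg.Agent.OrdDiv Cfsg.Agent.H436 Cfsg.Agent.H325.RIM

/-- **the field `u62`** -/
theorem u62 : NBRow 3 (.psu 6 2) := by
  intro S _ _ h _
  obtain ⟨F, i1, i2, hF, ⟨e⟩⟩ := h.real
  exact nball_three (F := F) (by rw [hF]; norm_num) e

end Cfsg.Agent.H655.RIM
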