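import Cfsg.Agent.H655.RIM.St81
import Cfsg.Agent.H35.RIM.BRElt
import Cfsg.Agent.H191.K547.Prod
import Cfsg.Agent.S2091
import Cfsg.Agent.Characters.Linear
import Cfsg.Agent.H487.SchurMult

/-!
# S4816: `U6(2)`, `p = 3` (helper655)

* `nb_of` : `NB 3 2` from an element `x` of order 3 of `2.S` with `C(x) = 3 × 2 × SU_4(2)`;
* `two_of` : the kernel of a perfect central extension of `U6(2)` with a faithful linear character has order 1, 2, 3, 6;
* `nball_of` : `NBall 3 (PSU_6(2))`.
-/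

set_option autoImplicit false

namespace Cfsg.Agent.H655.RIM

open Cfsg Subgroup Cfsg.Agent.H665.RIM

universe u v

/-- the geometry (helper242) -/
def Geo {F : Type v} [Field F] [Fintype F] (E : Type u) [Group E] (π : E →* PSU 6 F 2) : Prop :=
  ∃ (x : E) (φ : Multiplicative (ZMod 3) × π.ker × SU 4 F 2 →* E), orderOf x = 3 ∧ Function.Injective φ ∧
    φ.range = Subgroup.centralizer {x} ∧ φ (Multiplicative.ofAdd 1, 1, 1) = x ∧ ∀ z : π.ker, φ (1, z, 1) = z

theorem card_psu6 {F : Type*} [Field F] [Fintype F] (hF : Fintype.card F = 4) : Nat.card (PSU 6 F 2) = 9196830720 := by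
  have h1 := Subgroup.card_mul_index (Subgroup.center (SU 6 F 2))
  rw [S0279.result (q := 2) (by rw [hF]; norm_num) 6 (by norm_num),
    H948.UProd.card_SU (q := 2) (by rw [hF]; norm_num) (by norm_num)] at h1
  have h3 : ¬ Even 3 := by decide
  have h5 : ¬ Even 5 := by decide
  have h4 : Even 4 := by decide
  simp [H948.UProd.ph, Finset.prod_range_succ, h3, h4, h5] at h1
  have h2 : Nat.card (PSU 6 F 2) = (Subgroup.center (SU 6 F 2)).index := rfl
  rw [h2]
  omega

/-- **the character of degree divisible by 3** -/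
theorem exists_dvd_of_geo {F : Type v} [Field F] [Fintype F] (hF : Fintype.card F = 4) {E : Type u} [Group E] [Finite E]
    {π : E →* PSU 6 F 2} (hs : Function.Surjective π) (hc : π.ker ≤ Subgroup.center E) (h2 : Nat.card π.ker = 2)
    (h : Geo E π) (l : π.ker →* ℂˣ) :
    ∃ χ : E → ℂ, IsIrrCharacter E χ ∧ (∀ z : π.ker, χ z = χ 1 * l z) ∧ 3 ∣ charDegree χ := by
  obtain ⟨x, φ, hx, hinj, hr, hφx, hφz⟩ := h
  have : Fact (Nat.Prime 3) := ⟨Nat.prime_three⟩
  obtain ⟨χ, hχ, hχd⟩ := exists_eightyone hF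
  have hl : IsIrrCharacter π.ker (fun z => ((l z : ℂˣ) : ℂ)) := Characters.Linear.isIrrCharacter_hom l
  have h1 : IsIrrCharacter (Multiplicative (ZMod 3)) (fun _ => (1 : ℂ)) :=
    Characters.Linear.isIrrCharacter_hom (1 : Multiplicative (ZMod 3) →* ℂˣ)
  have hψ1 := S0188.isIrr_outer hl hχ
  have hψ := S0188.isIrr_outer h1 hψ1
  let g : ↥(centralizer ({x} : Set E)) ≃* Multiplicative (ZMod 3) × π.ker × SU 4 F 2 :=
    (MulEquiv.subgroupCongr hr.symm).trans (MonoidHom.ofInjective hinj).symm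
  have hg : ∀ c : ↥(centralizer ({x} : Set E)), φ (g c) = c := by
    intro c
    have h4 := (MonoidHom.ofInjective hinj).apply_symm_apply (MulEquiv.subgroupCongr hr.symm c)
    exact congrArg Subtype.val h4
  have hgz : ∀ (z : E) (hz : z ∈ π.ker) (hz' : z ∈ centralizer ({x} : Set E)), g ⟨z, hz'⟩ = (1, ⟨z, hz⟩, 1) := by
    intro z hz hz'
    apply hinj
    rw [hg, hφz]
  have hθ := Characters.Core.isIrr_comp g.toMonoidHom g.surjective hψ
  have hd : charDegree ((fun x : Multiplicative (ZMod 3) × π.ker × SU 4 F 2 =>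
      (fun _ : Multiplicative (ZMod 3) => (1 : ℂ)) x.1 *
        (fun x : π.ker × SU 4 F 2 => ((l x.1 : ℂˣ) : ℂ) * χ x.2) x.2) ∘ g.toMonoidHom) = 81 := by
    apply Blocks.Basic.charDegree_of_eq
    have h5 := Blocks.Basic.irr_one_eq_charDegree hχ
    rw [hχd] at h5
    show (1 : ℂ) * (((l (g 1).2.1 : ℂˣ) : ℂ) * χ (g 1).2.2) = _
    rw [map_one]
    show (1 : ℂ) * (((l 1 : ℂˣ) : ℂ) * χ 1) = _
    rw [map_one, h5]
    simp
  refine H35.RIM.exists_dvd_elt hc (by rw [h2]; norm_num) l hx ?_ _ hθ ?_ ?_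
  · have h6 := Subgroup.card_mul_index π.ker
    rw [Subgroup.index_ker, MonoidHom.range_eq_top.2 hs, Subgroup.card_top, card_psu6 hF, h2] at h6
    rw [← h6]
    norm_num
  · intro z hz hz'
    show (1 : ℂ) * (((l (g ⟨z, hz'⟩).2.1 : ℂˣ) : ℂ) * χ (g ⟨z, hz'⟩).2.2) =
      (1 : ℂ) * (((l (g 1).2.1 : ℂˣ) : ℂ) * χ (g 1).2.2) * _
    rw [map_one, hgz z hz hz']
    show (1 : ℂ) * (((l ⟨z, hz⟩ : ℂˣ) : ℂ) * χ 1) = (1 : ℂ) * (((l 1 : ℂˣ) : ℂ) * χ 1) * _
    rw [map_one]
    push_cast
    ring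
  · rw [hd, Nat.card_congr g.toEquiv, Nat.card_prod, Nat.card_prod, h2, card_su4 hF,
      Nat.card_congr (Multiplicative.toAdd (α := ZMod 3)), Nat.card_zmod]
    rw [show (3 * (2 * 25920) : ℕ) = 3 ^ 5 * 640 by norm_num, show (81 : ℕ) = 3 ^ 4 by norm_num,
      Nat.factorization_mul (by norm_num) (by norm_num), Nat.Prime.factorization_pow Nat.prime_three,
      Nat.Prime.factorization_pow Nat.prime_three, Finsupp.add_apply, Finsupp.single_eq_same, Finsupp.single_eq_same,
      Nat.factorization_eq_zero_of_not_dvd (by norm_num)]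

theorem pow_six : ∀ a : Multiplicative (ZMod 3 × ZMod 2 × ZMod 2), a ^ 6 = 1 := by decide

/-- the kernels of order prime to 3 with a faithful linear character -/
theorem card_ker_eq_two {K : Type u} [Group K] [Finite K] (f : Multiplicative (ZMod 3 × ZMod 2 × ZMod 2) →* K)
    (hf : Function.Surjective f) (l : K →* ℂˣ) (hl : Function.Injective l) (h2 : 2 ≤ Nat.card K) (h3 : ¬ 3 ∣ Nat.card K) :
    Nat.card K = 2 := by
  have hc : IsCyclic K := isCyclic_of_injective_ringHom ((Units.coeHom ℂ).comp l) (Units.val_injective.comp hl)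
  obtain ⟨g, hg⟩ := hc.exists_generator
  have ho : orderOf g = Nat.card K := orderOf_eq_card_of_forall_mem_zpowers hg
  have h6 : g ^ 6 = 1 := by
    obtain ⟨a, rfl⟩ := hf g
    rw [← map_pow]
    have : a ^ 6 = 1 := pow_six a
    rw [this, map_one]
  have h7 : Nat.card K ∣ 6 := ho ▸ orderOf_dvd_of_pow_eq_one h6
  have h8 : Nat.Coprime (Nat.card K) 3 := ((Nat.coprime_comm).1 ((Nat.Prime.coprime_iff_not_dvd Nat.prime_three).2 h3))
  have h9 : Nat.card K ∣ 2 := h8.dvd_of_dvd_mul_right (show Nat.card K ∣ 2 * 3 from h7)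
  have := Nat.le_of_dvd (by norm_num) h9
  omega

/-- the statement of the geometry for all perfect extensions with kernel of order two -/
def GeoAll (F : Type v) [Field F] [Fintype F] : Prop :=
  ∀ (E : Type u) [Group E] [Finite E] (π : E →* PSU 6 F 2), Function.Surjective π → π.ker ≤ Subgroup.center E →
    commutator E = ⊤ → Nat.card π.ker = 2 → Geo E π

/-- **`NBall 3`** for `U6(2)` -/
theorem nball_of_geo {F : Type v} [Field F] [Fintype F] (hF : Fintype.card F = 4) (hg : GeoAll.{u, v} F) {S : Type u}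
    [Group S] (e : S ≃* PSU 6 F 2) : NBall 3 S := by
  intro m hm hpm E _ _ π' hs hc hp hcard l hl
  let π : E →* PSU 6 F 2 := e.toMonoidHom.comp π'
  have hk : π.ker = π'.ker := by
    ext x
    rw [MonoidHom.mem_ker, MonoidHom.mem_ker]
    exact map_eq_one_iff _ e.injective
  have hs' : Function.Surjective π := e.surjective.comp hs
  have hc' : π.ker ≤ Subgroup.center E := by rw [hk]; exact hc
  obtain ⟨f, hf⟩ := H487.HasSchurMultiplier.exists_surj_ker (S2091.result hF) (τ := π) ⟨hs', hc', by rw [hp]; exact le_top⟩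
  let c : π.ker ≃* π'.ker := MulEquiv.subgroupCongr hk
  have h2 : Nat.card π.ker = 2 := by
    have h3 : Nat.card π.ker = m := by rw [Nat.card_congr c.toEquiv, hcard]
    exact card_ker_eq_two f hf (l.comp c.toMonoidHom) (hl.comp c.injective) (by omega) (by rw [h3]; exact hpm)
  obtain ⟨χ, h4, h5, h6⟩ := exists_dvd_of_geo hF hs' hc' h2 (hg E π hs' hc' hp h2) (l.comp c.toMonoidHom)
  refine ⟨χ, h4, fun z => ?_, h6⟩
  have h7 := h5 (c.symm z)
  have h8 : (l.comp c.toMonoidHom) (c.symm z) = l z := by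
    show l (c (c.symm z)) = l z
    rw [c.apply_symm_apply]
  rw [h8] at h7
  exact h7

end Cfsg.Agent.H655.RIM
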