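import Cfsg.Agent.H655.RIM.U62
import Cfsg.Agent.H242.RIM.USix

/-!
# S4816: `NBall 3` for `U6(2)` (helper655, geometry helper242)
-/

set_option autoImplicit false

namespace Cfsg.Agent.H655.RIM

open Cfsg Cfsg.Agent.H665.RIM

universe u

/-- **the row `U6(2)`, `p = 3`** -/
theorem nball_three {F : Type} [Field F] [Fintype F] (hF : Fintype.card F = 4) {S : Type u} [Group S]
    (e : S ≃* PSU 6 F 2) : NBall 3 S :=
  nball_of_geo hF (fun _ _ _ π hs hc hp h2 => Cfsg.Agent.H242.RIM.geo hF π hs hc hp h2) e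

end Cfsg.Agent.H655.RIM
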